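import Mathlib

/-! Adjoining a root of a linear equation: primality and non-zero-divisor transport. -/

set_option autoImplicit false

namespace Groth.Agent.Lie3

open Polynomial

variable {R : Type*} [CommRing R]

/-- `s` is a non-zero-divisor modulo `I`. -/
def NZ (I : Ideal R) (s : R) : Prop := ∀ p, s * p ∈ I → p ∈ I

theorem nz_of_prime {I : Ideal R} [I.IsPrime] {s : R} (hs : s ∉ I) : NZ I s :=
  fun _ h => (Ideal.IsPrime.mem_or_mem inferInstance h).resolve_left hs

theorem nz_map {I : Ideal R} {s : R} (h : NZ I s) : NZ (I.map C) (C s) := by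
  intro p hp
  rw [Ideal.mem_map_C_iff] at hp ⊢
  intro n
  exact h _ (by simpa using hp n)

theorem nz_lin {I : Ideal R} {s : R} (a : R) (h : NZ I s) :
    NZ (I.map C) (C s * X - C a) := by
  intro p hp
  rw [Ideal.mem_map_C_iff] at hp ⊢
  have key : ∀ k n, p.natDegree < n + k → p.coeff n ∈ I := by
    intro k
    induction k with
    | zero =>
      intro n hn
      rw [p.coeff_eq_zero_of_natDegree_lt (by omega)]; exact I.zero_mem
    | succ k ih =>
      intro n hn
      have h1 := hp (n + 1)
      have h2 := ih (n + 1) (by omega)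
      rw [sub_mul, coeff_sub, mul_assoc, coeff_C_mul, coeff_X_mul, coeff_C_mul] at h1
      exact h _ ((sub_add_cancel (s * p.coeff n) (a * p.coeff (n + 1))) ▸
        I.add_mem h1 (I.mul_mem_left a h2))
  exact fun n => key (p.natDegree + 1) n (by omega)

theorem nz_swap {I : Ideal R} {x F : R} (hx : NZ I x) (hF : NZ (I ⊔ Ideal.span {x}) F) :
    NZ (I ⊔ Ideal.span {F}) x := by
  intro p hp
  simp only [Submodule.mem_sup, Ideal.mem_span_singleton'] at hp ⊢
  obtain ⟨i, hi, _, ⟨q, rfl⟩, e⟩ := hp
  have hq : q ∈ I ⊔ Ideal.span {x} := by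
    refine hF q ?_
    simp only [Submodule.mem_sup, Ideal.mem_span_singleton']
    exact ⟨-i, I.neg_mem hi, x * p, ⟨p, mul_comm _ _⟩, by linear_combination -e⟩
  simp only [Submodule.mem_sup, Ideal.mem_span_singleton'] at hq
  obtain ⟨j, hj, _, ⟨r, rfl⟩, rfl⟩ := hq
  refine ⟨p - r * F, hx _ ?_, r * F, ⟨r, rfl⟩, by ring⟩
  rw [show x * (p - r * F) = i + j * F by linear_combination -e]
  exact I.add_mem hi (I.mul_mem_right F hj)

/-- `R[T]/(Q, sT - a, rT - r')` is a domain when the ideal of leading coefficients is prime. -/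
theorem prime_lin (Q : Ideal R) [Q.IsPrime] (s a r r' : R) (hs : s ∉ Q)
    (hrel : r * a - r' * s ∈ Q) (hP : (Q ⊔ Ideal.span {s, r}).IsPrime)
    (ha : a ∉ Q ⊔ Ideal.span {s, r}) :
    (Q.map C ⊔ Ideal.span {C s * X - C a, C r * X - C r'}).IsPrime := by
  let π := Ideal.Quotient.mk Q
  let ι := (algebraMap (R ⧸ Q) (FractionRing (R ⧸ Q))).comp π
  have hι : ∀ u, ι u = 0 ↔ u ∈ Q := fun u => by
    simp only [ι, RingHom.comp_apply, map_eq_zero_iff _
      (IsFractionRing.injective (R ⧸ Q) (FractionRing (R ⧸ Q)))]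
    exact Ideal.Quotient.eq_zero_iff_mem
  have hs' : ι s ≠ 0 := fun h => hs ((hι s).mp h)
  let ψ : R[X] →+* FractionRing (R ⧸ Q) := eval₂RingHom ι (ι a / ι s)
  set I := Q.map C ⊔ Ideal.span {C s * X - C a, C r * X - C r'}
  have hψC : ∀ u, ψ (C u) = ι u := fun u => eval₂_C _ _
  have hψX : ψ X = ι a / ι s := eval₂_X _ _
  have hle : I ≤ RingHom.ker ψ := by
    refine sup_le ?_ ?_
    · rw [Ideal.map_le_iff_le_comap]
      intro q hq
      rw [Ideal.mem_comap, RingHom.mem_ker, hψC]
      exact (hι q).mpr hq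
    · rw [Ideal.span_le]
      rintro f (rfl | rfl) <;>
        rw [SetLike.mem_coe, RingHom.mem_ker, map_sub, map_mul, hψC, hψC, hψX]
      · field_simp
        simp
      · have := (hι _).mpr hrel
        rw [map_sub, map_mul, map_mul] at this
        field_simp
        linear_combination this
  have hscale : ∀ (n : ℕ) (f : R[X]), f.natDegree ≤ n → ∃ m, ψ f * ι s ^ n = ι m := by
    intro n f hf
    refine ⟨∑ k ∈ Finset.range (n + 1), f.coeff k * a ^ k * s ^ (n - k), ?_⟩
    conv_lhs => rw [f.as_sum_range_C_mul_X_pow' (Nat.lt_succ_of_le hf)]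
    rw [map_sum, map_sum, Finset.sum_mul]
    refine Finset.sum_congr rfl fun k hk => ?_
    have hk' : k ≤ n := Nat.lt_succ_iff.mp (Finset.mem_range.mp hk)
    simp only [map_mul, map_pow, hψC, hψX, div_pow]
    rw [← pow_sub_mul_pow (ι s) hk']
    field_simp
  have key : ∀ (n : ℕ) (f : R[X]), f.natDegree ≤ n → ψ f = 0 → f ∈ I := by
    intro n
    induction n with
    | zero =>
      intro f hf h0
      rw [eq_C_of_natDegree_le_zero hf] at h0 ⊢
      rw [hψC, hι] at h0
      exact Ideal.mem_sup_left (Ideal.mem_map_of_mem _ h0)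
    | succ n ih =>
      intro f hf h0
      set t := f.coeff (n + 1)
      set g := f - C t * X ^ (n + 1) with hg
      have hgd : g.natDegree ≤ n := by
        rw [natDegree_le_iff_coeff_eq_zero]
        intro m hm
        rw [hg, coeff_sub, coeff_C_mul_X_pow]
        rcases eq_or_ne m (n + 1) with rfl | hne
        · simp [t]
        · rw [if_neg hne, sub_zero]
          exact coeff_eq_zero_of_natDegree_lt (by omega)
      obtain ⟨m, hm⟩ := hscale n g hgd
      have hQ : t * a ^ (n + 1) + m * s ∈ Q := by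
        rw [← hι, map_add, map_mul, map_mul, map_pow, ← hm]
        have : ψ g = -(ι t * (ι a / ι s) ^ (n + 1)) := by
          simp only [hg, map_sub, h0, map_mul, map_pow, hψC, hψX, zero_sub]
        rw [this, div_pow, pow_succ (ι s)]
        field_simp
        ring
      have hmem : t * a ^ (n + 1) ∈ Q ⊔ Ideal.span {s, r} := by
        rw [show t * a ^ (n + 1) = (t * a ^ (n + 1) + m * s) - m * s by ring]
        exact Ideal.sub_mem _ (Ideal.mem_sup_left hQ)
          (Ideal.mem_sup_right (Ideal.mul_mem_left _ _ (Ideal.subset_span (by simp))))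
      have ht : t ∈ Q ⊔ Ideal.span {s, r} :=
        (hP.mem_or_mem hmem).resolve_right fun h => ha (hP.mem_of_pow_mem _ h)
      simp only [Submodule.mem_sup, Ideal.mem_span_pair] at ht
      obtain ⟨q, hq, _, ⟨u, v, rfl⟩, htq⟩ := ht
      have hsplit : f = C q * X ^ (n + 1) + C u * X ^ n * (C s * X - C a) +
          C v * X ^ n * (C r * X - C r') + (g + C (u * a + v * r') * X ^ n) := by
        rw [hg, ← htq]
        simp only [map_add, map_mul]
        ring
      have hI : C q * X ^ (n + 1) + C u * X ^ n * (C s * X - C a) +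
          C v * X ^ n * (C r * X - C r') ∈ I :=
        I.add_mem (I.add_mem (I.mul_mem_right _ (Ideal.mem_sup_left (Ideal.mem_map_of_mem _ hq)))
          (I.mul_mem_left _ (Ideal.mem_sup_right (Ideal.subset_span (by simp)))))
          (I.mul_mem_left _ (Ideal.mem_sup_right (Ideal.subset_span (by simp))))
      have hd : (g + C (u * a + v * r') * X ^ n).natDegree ≤ n :=
        (natDegree_add_le _ _).trans (max_le hgd (natDegree_C_mul_X_pow_le _ _))
      rw [hsplit]
      refine I.add_mem hI (ih _ hd ?_)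
      have := RingHom.mem_ker.mp (hle hI)
      rw [hsplit, map_add, this, zero_add] at h0
      exact h0
  have heq : I = RingHom.ker ψ :=
    le_antisymm hle fun f hf => key _ f le_rfl hf
  rw [heq]
  exact RingHom.ker_isPrime ψ

theorem prime_lin₁ (Q : Ideal R) [Q.IsPrime] (s a : R) (hs : s ∉ Q)
    (hP : (Q ⊔ Ideal.span {s}).IsPrime) (ha : a ∉ Q ⊔ Ideal.span {s}) :
    (Q.map C ⊔ Ideal.span {C s * X - C a}).IsPrime := by
  have he : Q ⊔ Ideal.span {s, 0} = Q ⊔ Ideal.span {s} := by
    rw [Ideal.span_insert, Ideal.span_singleton_eq_bot.mpr rfl, sup_bot_eq]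
  have := prime_lin Q s a 0 0 hs (by simp) (he ▸ hP) (he ▸ ha)
  simp only [map_zero, zero_mul, sub_zero] at this
  rwa [Ideal.span_insert, Ideal.span_singleton_eq_bot.mpr rfl, sup_bot_eq] at this

theorem prime_map_sup_X (Q : Ideal R) [Q.IsPrime] :
    (Q.map C ⊔ Ideal.span {X}).IsPrime := by
  have : Q.map C ⊔ Ideal.span {X} = Q.comap (constantCoeff (R := R)) := by
    refine le_antisymm (sup_le ?_ ?_) fun f hf => ?_
    · rw [Ideal.map_le_iff_le_comap]
      intro q hq; simpa using hq
    · rw [Ideal.span_le, Set.singleton_subset_iff]; simp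
    · rw [← X_mul_divX_add f]
      exact Ideal.add_mem _ (Ideal.mem_sup_right (Ideal.mul_mem_right _ _
        (Ideal.mem_span_singleton_self _))) (Ideal.mem_sup_left (Ideal.mem_map_of_mem _ (by simpa using hf)))
  rw [this]
  infer_instance

end Groth.Agent.Lie3
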