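import Groth.Agent.Lie3.Lin
import Groth.Prelude.Def_W4c1bouilletffgsL3

/-! The two components of the variety of based three-dimensional Lie algebras. -/

set_option autoImplicit false
set_option synthInstance.maxSize 512
set_option synthInstance.maxHeartbeats 200000
set_option maxHeartbeats 1000000

noncomputable section

namespace Groth.Agent.Lie3

open Polynomial Lie3Mod

variable (A : Type*) [CommRing A]

/-- Coordinates `x, y, z, b, h, i`, kept opaque. -/
def V := MvPolynomial (Fin 6) A

instance instV : CommRing (V A) := inferInstanceAs (CommRing (MvPolynomial (Fin 6) A))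
instance [IsDomain A] : IsDomain (V A) := inferInstanceAs (IsDomain (MvPolynomial (Fin 6) A))

/-- The coordinate functions. -/
def var (k : Fin 6) : V A := (MvPolynomial.X k : MvPolynomial (Fin 6) A)
/-- Constants. -/
def cV : A →+* V A := (MvPolynomial.C : A →+* MvPolynomial (Fin 6) A)
/-- Evaluation. -/
def homV {S : Type*} [CommRing S] (f : A →+* S) (p : Fin 6 → S) : V A →+* S :=
  (MvPolynomial.eval₂Hom f p : MvPolynomial (Fin 6) A →+* S)

@[simp] theorem homV_var {S : Type*} [CommRing S] (f : A →+* S) (p : Fin 6 → S) (k : Fin 6) :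
    homV A f p (var A k) = p k := MvPolynomial.eval₂Hom_X' f p k

@[simp] theorem homV_cV {S : Type*} [CommRing S] (f : A →+* S) (p : Fin 6 → S) (a : A) :
    homV A f p (cV A a) = f a := MvPolynomial.eval₂Hom_C f p a

theorem homV_ext {S : Type*} [CommRing S] {f g : V A →+* S} (hc : ∀ a, f (cV A a) = g (cV A a))
    (hv : ∀ k, f (var A k) = g (var A k)) : f = g :=
  MvPolynomial.ringHom_ext (f := (f : MvPolynomial (Fin 6) A →+* S)) (g := g) hc hv

theorem induction_V {P : V A → Prop} (hC : ∀ a, P (cV A a)) (hadd : ∀ p q, P p → P q → P (p + q))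
    (hmul : ∀ p k, P p → P (p * var A k)) (p : V A) : P p :=
  MvPolynomial.induction_on (motive := fun q : MvPolynomial (Fin 6) A => P q) p hC hadd hmul

theorem var_mul_cancel (k : Fin 6) {p : V A} (hp : var A k * p = 0) : p = 0 := by
  refine MvPolynomial.ext (R := A) p 0 fun m => ?_
  have := congrArg (fun q : V A => MvPolynomial.coeff (R := A) (Finsupp.single k 1 + m) q) hp
  exact (MvPolynomial.coeff_X_mul m k (p : MvPolynomial (Fin 6) A)).symm.trans this

theorem var_ne_zero [Nontrivial A] (k : Fin 6) : var A k ≠ 0 := MvPolynomial.X_ne_zero k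

attribute [irreducible] V instV

abbrev x : V A := var A 0
abbrev y : V A := var A 1
abbrev z : V A := var A 2
abbrev b : V A := var A 3
abbrev h : V A := var A 4
abbrev i : V A := var A 5

def uu : V A := h A * x A + i A * z A
def vv : V A := -(h A * y A) + b A * z A
def ww : V A := b A * x A - x A * y A - i A * y A

def F1 : (V A)[X] := C (y A) * X - C (uu A)
def F2 : (V A)[X][X] := C (C (x A)) * X - C (C (vv A))
def D1 : (V A)[X][X] := C X * X - C (-C (h A ^ 2))
def D0 : (V A)[X][X] :=
  C X * C (C (b A * (y A - b A))) + X * C (C (i A ^ 2)) +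
    C (C (2 * (h A * b A * i A) - i A * h A * y A))
def F3 : (V A)[X][X][X] := C (C (C (z A))) * X - C (-C (C (ww A)))
def F4 : (V A)[X][X][X] := C (D1 A) * X - C (D0 A)

/-- The old coordinates in the new ones: `a ↦ x + i, d ↦ z - h, f ↦ y - b, g, e, c` the three
outer variables. -/
def toS : D A →+* (V A)[X][X][X] :=
  MvPolynomial.eval₂Hom (C.comp (C.comp (C.comp (cV A))))
    ![C (C (C (x A + i A))), C (C (C (b A))), X, C (C (C (z A - h A))), C X,
      C (C (C (y A - b A))), C (C X), C (C (C (h A))), C (C (C (i A)))]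

def ofS : (V A)[X][X][X] →+* D A :=
  eval₂RingHom (eval₂RingHom (eval₂RingHom
    (homV A MvPolynomial.C ![L1 A, L2 A, L3 A, vb, vh, vi]) vg) ve) vc

theorem toS_C (a : A) : toS A (MvPolynomial.C a) = C (C (C (cV A a))) :=
  MvPolynomial.eval₂Hom_C _ _ a

theorem toS_X (k : Fin 9) : toS A (MvPolynomial.X k) =
    ![C (C (C (x A + i A))), C (C (C (b A))), X, C (C (C (z A - h A))), C X,
      C (C (C (y A - b A))), C (C X), C (C (C (h A))), C (C (C (i A)))] k :=
  MvPolynomial.eval₂Hom_X' _ _ k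

theorem ofS_toS : (ofS A).comp (toS A) = RingHom.id _ := by
  refine MvPolynomial.ringHom_ext (fun a => by simp [toS_C, ofS]) fun k => ?_
  fin_cases k <;> simp [toS_X, ofS, L1, L2, L3]

theorem toS_ofS : (toS A).comp (ofS A) = RingHom.id _ := by
  apply Polynomial.ringHom_ext'
  · apply Polynomial.ringHom_ext'
    · apply Polynomial.ringHom_ext'
      · refine RingHom.ext fun p => ?_
        induction p using induction_V with
        | hC a => simp [toS_C, ofS]
        | hadd p q hp hq => rw [map_add, map_add, hp, hq]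
        | hmul p k hp =>
          rw [map_mul, map_mul, hp]
          congr 1
          fin_cases k <;> simp [toS_X, ofS, L1, L2, L3, map_add, map_sub] <;> ring
      · simp [toS_X, ofS]
    · simp [toS_X, ofS]
  · simp [toS_X, ofS]

def Φ : D A ≃+* (V A)[X][X][X] :=
  RingEquiv.ofRingHom (toS A) (ofS A) (toS_ofS A) (ofS_toS A)

theorem Φ_apply (p : D A) : Φ A p = toS A p := rfl

theorem Φ_Q1 : Φ A (Q1 A) = -C (C (F1 A)) := by
  simp [Φ_apply, toS_X, map_add, map_sub, map_mul, map_neg, map_pow, Q1, F1, uu]; ring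

theorem Φ_Q2 : Φ A (Q2 A) = -C (F2 A) := by
  simp [Φ_apply, toS_X, map_add, map_sub, map_mul, map_neg, map_pow, Q2, F2, vv]; ring

theorem Φ_Q3 : Φ A (Q3 A) = F3 A := by
  simp [Φ_apply, toS_X, map_add, map_sub, map_mul, map_neg, map_pow, Q3, F3, ww]; ring

theorem Φ_det : Φ A (detM A) = -F4 A := by
  simp [Φ_apply, toS_X, map_add, map_sub, map_mul, map_neg, map_pow, detM, F4, D1, D0, C_ofNat]; ring

theorem Φ_L1 : Φ A (L1 A) = C (C (C (x A))) := by simp [Φ_apply, toS_X, map_add, map_sub, map_mul, map_neg, map_pow, L1] <;> ring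
theorem Φ_L2 : Φ A (L2 A) = C (C (C (y A))) := by simp [Φ_apply, toS_X, map_add, map_sub, map_mul, map_neg, map_pow, L2] <;> ring
theorem Φ_L3 : Φ A (L3 A) = C (C (C (z A))) := by simp [Φ_apply, toS_X, map_add, map_sub, map_mul, map_neg, map_pow, L3] <;> ring

theorem span_neg_singleton {R : Type*} [CommRing R] (r : R) :
    Ideal.span {-r} = Ideal.span {r} := by
  ext q; simp [Ideal.mem_span_singleton]

theorem map_idL : (idL A).map (Φ A) =
    (((Ideal.span {x A, y A, z A}).map C).map C).map C := by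
  simp only [idL, Ideal.map_span, Set.image_insert_eq, Set.image_singleton, Φ_L1, Φ_L2, Φ_L3]

theorem span_map_sup {R : Type*} [CommRing R] (s : Set R) (t : Set R[X]) :
    (Ideal.span s).map C ⊔ Ideal.span t = Ideal.span (C '' s ∪ t) := by
  rw [Ideal.map_span, Ideal.span_union]

theorem map_idJ : (idJ A).map (Φ A) =
    (Ideal.span {C (F1 A), F2 A}).map C ⊔ Ideal.span {F3 A, F4 A} := by
  rw [idJ, Ideal.map_span, span_map_sup]
  simp only [Set.image_insert_eq, Set.image_singleton, Φ_Q1, Φ_Q2, Φ_Q3, Φ_det, Ideal.span_union,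
    Ideal.span_insert, sup_assoc]
  rw [span_neg_singleton (C (C (F1 A))), span_neg_singleton (C (F2 A)), span_neg_singleton (F4 A)]

variable {A}

/-- Setting the variables of `s` to zero. -/
def kill (s : Set (Fin 6)) : V A →+* V A :=
  homV A (cV A) fun k =>
    haveI := Classical.dec (k ∈ s); if k ∈ s then 0 else var A k

theorem span_X_eq_ker (s : Set (Fin 6)) :
    Ideal.span (var A '' s) = RingHom.ker (kill s) := by
  refine le_antisymm (Ideal.span_le.mpr ?_) fun p hp => ?_
  · rintro _ ⟨k, hk, rfl⟩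
    simp [kill, hk]
  have key : ∀ q : V A, q - kill s q ∈ Ideal.span (var A '' s) := by
    intro q
    induction q using induction_V with
    | hC a => simp [kill]
    | hadd p q hp hq => rw [map_add]; convert! add_mem hp hq using 1; ring
    | hmul p k hp =>
      rw [map_mul]
      by_cases hk : k ∈ s
      · have : kill (A := A) s (var A k) = 0 := by simp [kill, hk]
        rw [this, mul_zero, sub_zero]
        exact Ideal.mul_mem_left _ _ (Ideal.subset_span ⟨k, hk, rfl⟩)
      · have : kill (A := A) s (var A k) = var A k := by simp [kill, hk]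
        rw [this, ← sub_mul]
        exact Ideal.mul_mem_right _ _ hp
  simpa [RingHom.mem_ker.mp hp] using key p

theorem prime_span_X [IsDomain A] (s : Set (Fin 6)) : (Ideal.span (var A '' s)).IsPrime := by
  rw [span_X_eq_ker]; exact RingHom.ker_isPrime _

theorem nz_span_X (s : Set (Fin 6)) {j : Fin 6} (hj : j ∉ s) :
    NZ (Ideal.span (var A '' s)) (var A j) := by
  intro p hp
  rw [span_X_eq_ker, RingHom.mem_ker] at hp ⊢
  rw [map_mul, show kill (A := A) s (var A j) = var A j by simp [kill, hj]] at hp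
  exact var_mul_cancel A j hp

theorem nmem_span {R S : Type*} [CommRing R] [CommRing S] (φ : R →+* S) {s : Set R} {a : R}
    (hs : ∀ g ∈ s, φ g = 0) (ha : φ a ≠ 0) : a ∉ Ideal.span s :=
  fun h => ha ((Ideal.span_le.mpr hs : Ideal.span s ≤ RingHom.ker φ) h)

theorem prime_X1 [IsDomain A] (k : Fin 6) : (Ideal.span {var A k}).IsPrime := by
  simpa using prime_span_X (A := A) {k}

theorem prime_X2 [IsDomain A] (k l : Fin 6) :
    (Ideal.span {var A k, var A l}).IsPrime := by
  simpa [Set.image_insert_eq] using prime_span_X (A := A) {k, l}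

variable (A)

/-- Evaluation at a point in the six coordinates. -/
def ev0 (p : Fin 6 → A) : V A →+* A := homV A (RingHom.id A) p

@[simp] theorem ev0_var (p : Fin 6 → A) (k : Fin 6) : ev0 A p (var A k) = p k :=
  homV_var A _ p k

/-- Evaluation at a point in the six coordinates and `g`. -/
def ev1 (p : Fin 6 → A) (g : A) : (V A)[X] →+* A := eval₂RingHom (ev0 A p) g

def ev2 (p : Fin 6 → A) (g e : A) : (V A)[X][X] →+* A := eval₂RingHom (ev1 A p g) e

theorem prime_F1_sup [IsDomain A] (k : Fin 6) (hk : k = 0 ∨ k = 2) :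
    (Ideal.span {C (var A k), F1 A}).IsPrime := by
  have := prime_X1 (A := A) k
  have h1 : (y A) ∉ Ideal.span {(var A k)} :=
    nmem_span (ev0 A ![0, 1, 0, 0, 0, 0]) (by
      rcases hk with rfl | rfl <;> simp) (by simp)
  have h2 : (Ideal.span {(var A k)} ⊔ Ideal.span {y A}).IsPrime := by
    rw [← Ideal.span_insert]; exact prime_X2 k 1
  have h3 : uu A ∉ Ideal.span {(var A k)} ⊔ Ideal.span {y A} := by
    rw [← Ideal.span_insert]
    rcases hk with rfl | rfl
    · exact nmem_span (ev0 A ![0, 0, 1, 0, 0, 1]) (by simp) (by simp [uu])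
    · exact nmem_span (ev0 A ![1, 0, 0, 0, 1, 0]) (by simp) (by simp [uu])
  have := prime_lin₁ _ _ _ h1 h2 h3
  rw [span_map_sup, Set.image_singleton, Set.singleton_union] at this
  exact this

theorem prime_Q1 [IsDomain A] : (Ideal.span {F1 A}).IsPrime := by
  have h1 : (y A) ∉ (⊥ : Ideal (V A)) := by simpa using var_ne_zero A 1
  have h3 : uu A ∉ (⊥ : Ideal (V A)) ⊔ Ideal.span {y A} := by
    rw [bot_sup_eq]
    exact nmem_span (ev0 A ![0, 0, 1, 0, 0, 1]) (by simp) (by simp [uu])
  haveI : (⊥ : Ideal (V A)).IsPrime := Ideal.isPrime_bot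
  have := prime_lin₁ ⊥ _ _ h1 (by rw [bot_sup_eq]; exact prime_X1 1) h3
  rwa [Ideal.map_bot, bot_sup_eq] at this

theorem prime_Q2 [IsDomain A] : (Ideal.span {C (F1 A), F2 A}).IsPrime := by
  have := prime_Q1 A
  have hP : (Ideal.span {F1 A} ⊔ Ideal.span {C (x A)}).IsPrime := by
    rw [← Ideal.span_insert, Set.pair_comm]; exact prime_F1_sup A 0 (Or.inl rfl)
  have h1 : C (x A) ∉ Ideal.span {F1 A} :=
    nmem_span (ev1 A ![1, 1, 0, 0, 0, 0] 0) (by simp [ev1, F1, uu]) (by simp [ev1])
  have h2 : C (vv A) ∉ Ideal.span {F1 A} ⊔ Ideal.span {C (x A)} := by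
    rw [← Ideal.span_insert]
    exact nmem_span (ev1 A ![0, 0, 1, 1, 0, 0] 0) (by simp [ev1, F1, uu]) (by simp [ev1, vv])
  have := prime_lin₁ _ _ _ h1 hP h2
  rw [span_map_sup, Set.image_singleton, Set.singleton_union] at this
  exact this

theorem prime_xzg [IsDomain A] :
    (Ideal.span {C (z A), F1 A} ⊔ Ideal.span {C (x A), X}).IsPrime := by
  have := prime_X2 (A := A) 0 2
  have hp := prime_map_sup_X (Ideal.span {x A, z A})
  suffices he : Ideal.span {C (z A), F1 A} ⊔ Ideal.span {C (x A), X} =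
      (Ideal.span {x A, z A}).map C ⊔ Ideal.span {X} by rw [he]; exact hp
  rw [span_map_sup, ← Ideal.span_union]
  have hF : F1 A ∈ Ideal.span ({C (x A), C (z A), X} : Set (V A)[X]) := by
    have e : F1 A = C (y A) * X - C (h A) * C (x A) - C (i A) * C (z A) := by
      simp [F1, uu]; ring
    rw [e]
    refine Ideal.sub_mem _ (Ideal.sub_mem _ ?_ ?_) ?_ <;>
      exact Ideal.mul_mem_left _ _ (Ideal.subset_span (by simp))
  refine le_antisymm (Ideal.span_le.mpr ?_) (Ideal.span_le.mpr ?_)
  · rintro g ((rfl | rfl) | (rfl | rfl))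
    · exact Ideal.subset_span (by simp)
    · refine (Ideal.span_mono ?_) hF
      simp [Set.image_insert_eq, Set.insert_subset_iff]
    · exact Ideal.subset_span (by simp)
    · exact Ideal.subset_span (by simp)
  · rintro g (⟨k, (rfl | rfl), rfl⟩ | rfl) <;> exact Ideal.subset_span (by simp)

theorem rel_xg : X * C (vv A) - (-C (h A ^ 2)) * C (x A) ∈ Ideal.span {C (z A), F1 A} := by
  refine Ideal.mem_span_pair.mpr ⟨C (b A) * X - C (h A * i A), C (-h A), ?_⟩
  simp [F1, uu, vv]
  ring

theorem prime_P3 [IsDomain A] :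
    (Ideal.span {C (F1 A), F2 A} ⊔ Ideal.span {C (C (z A)), D1 A}).IsPrime := by
  have := prime_F1_sup A 2 (Or.inr rfl)
  have h1 : C (x A) ∉ Ideal.span {C (z A), F1 A} := nmem_span (ev1 A ![1, 0, 0, 0, 0, 0] 0)
    (by simp [ev1, F1, uu]) (by simp [ev1])
  have h2 : C (vv A) ∉ Ideal.span {C (z A), F1 A} ⊔ Ideal.span {C (x A), X} := by
    rw [← Ideal.span_union]
    exact nmem_span (ev1 A ![0, 1, 0, 0, 1, 0] 0) (by simp [ev1, F1, uu]) (by simp [ev1, vv])
  have hP := prime_lin _ _ _ _ _ h1 (rel_xg A) (prime_xzg A) h2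
  rw [span_map_sup, ← F2, ← D1] at hP
  rw [← Ideal.span_union]
  have he : ({C (F1 A), F2 A} ∪ {C (C (z A)), D1 A} : Set (V A)[X][X]) =
      C '' {C (z A), F1 A} ∪ {F2 A, D1 A} := by
    rw [Set.image_insert_eq, Set.image_singleton]
    ext g
    simp only [Set.mem_union, Set.mem_insert_iff, Set.mem_singleton_iff]
    tauto
  rwa [he]

theorem prime_idJ [IsDomain A] : (idJ A).IsPrime := by
  have := prime_Q2 A
  have h1 : C (C (z A)) ∉ Ideal.span {C (F1 A), F2 A} :=
    nmem_span (ev2 A ![1, 1, 1, 0, 0, 0] 0 0) (by simp [ev2, ev1, F1, F2, uu, vv])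
      (by simp [ev2, ev1])
  have hrel : D1 A * (-C (C (ww A))) - D0 A * C (C (z A)) ∈ Ideal.span {C (F1 A), F2 A} := by
    rw [show D1 A * (-C (C (ww A))) - D0 A * C (C (z A)) =
      (X * C (C (i A)) + C (C (h A * (b A - y A)))) * C (F1 A) +
        (C (C (h A * i A)) - C X * C (C (b A - y A))) * F2 A by
      simp [F1, F2, D1, D0, uu, vv, ww, C_ofNat]; ring]
    exact Ideal.add_mem _ (Ideal.mul_mem_left _ _ (Ideal.subset_span (by simp)))
      (Ideal.mul_mem_left _ _ (Ideal.subset_span (by simp)))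
  have h2 : -C (C (ww A)) ∉
      Ideal.span {C (F1 A), F2 A} ⊔ Ideal.span {C (C (z A)), D1 A} := by
    rw [← Ideal.span_union]
    exact nmem_span (ev2 A ![1, 0, 0, 1, 0, 0] 0 0) (by simp [ev2, ev1, F1, F2, D1, uu, vv, sq])
      (by simp [ev2, ev1, ww])
  have := prime_lin _ _ _ _ _ h1 hrel (prime_P3 A) h2
  rw [← F3, ← F4, ← map_idJ] at this
  have h3 := this.comap (Φ A)
  rwa [Ideal.comap_map_of_bijective _ (Φ A).bijective] at h3

theorem prime_idL [IsDomain A] : (idL A).IsPrime := by
  have h0 : (Ideal.span {x A, y A, z A}).IsPrime := by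
    simpa [Set.image_insert_eq] using prime_span_X (A := A) {0, 1, 2}
  haveI := h0
  have h3 : (((Ideal.span {x A, y A, z A}).map C).map C).map (C (R := (V A)[X][X])) |>.IsPrime :=
    inferInstance
  rw [← map_idL] at h3
  have h4 := h3.comap (Φ A)
  rwa [Ideal.comap_map_of_bijective _ (Φ A).bijective] at h4

variable {A}

theorem nz_of_equiv {R S : Type*} [CommRing R] [CommRing S] (e : R ≃+* S) {I : Ideal R} {s : R}
    (h : NZ (I.map e) (e s)) : NZ I s := by
  intro p hp
  have := h (e p) (by rw [← map_mul]; exact Ideal.mem_map_of_mem _ hp)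
  have h' := Ideal.mem_comap.mpr this
  rwa [Ideal.comap_map_of_bijective _ e.bijective] at h'

theorem nz_neg {R : Type*} [CommRing R] {I : Ideal R} {s : R} (h : NZ I s) : NZ I (-s) :=
  fun p hp => h p (by simpa using I.neg_mem hp)

theorem nz_one {R : Type*} [CommRing R] (I : Ideal R) : NZ I 1 := fun p hp => by simpa using hp

variable (A)

theorem nz_detM : NZ (idL A) (detM A) := by
  refine nz_of_equiv (S := (V A)[X][X][X]) (Φ A) ?_
  rw [map_idL, Φ_det]
  refine nz_neg (nz_lin _ ?_)
  refine nz_lin _ ?_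
  simpa using nz_lin 0 (nz_one (Ideal.span {x A, y A, z A}))

theorem Q_mem_idI : Q1 A ∈ idI A ∧ Q2 A ∈ idI A ∧ Q3 A ∈ idI A :=
  ⟨Ideal.subset_span (by simp), Ideal.subset_span (by simp), Ideal.subset_span (by simp)⟩

theorem detM_mem_idJ : detM A ∈ idJ A := Ideal.subset_span (by simp)

theorem idI_le_idJ : idI A ≤ idJ A :=
  Ideal.span_mono (by simp [Set.insert_subset_iff])

theorem idI_le_idL : idI A ≤ idL A := by
  rw [idI, Ideal.span_le]
  have m1 : L1 A ∈ idL A := Ideal.subset_span (by simp)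
  have m2 : L2 A ∈ idL A := Ideal.subset_span (by simp)
  have m3 : L3 A ∈ idL A := Ideal.subset_span (by simp)
  have key : ∀ p q r : D A, p * L1 A + q * L2 A + r * L3 A ∈ idL A := fun p q r =>
    add_mem (add_mem (Ideal.mul_mem_left _ _ m1) (Ideal.mul_mem_left _ _ m2))
      (Ideal.mul_mem_left _ _ m3)
  rintro g (rfl | rfl | rfl)
  · convert! key vh (-vg) vi using 1; simp [Q1, L1, L2, L3]; ring
  · convert! key (-ve) (-vh) vb using 1; simp [Q2, L1, L2, L3]; ring
  · convert! key (-vf) (-vi) vc using 1; simp [Q3, L1, L2, L3]; ring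

/-- Cramer's rule. -/
theorem detM_mul_idL {p : D A} (hp : p ∈ idL A) : detM A * p ∈ idI A := by
  obtain ⟨h1, h2, h3⟩ := Q_mem_idI A
  have key : ∀ r1 r2 r3 : D A, r1 * Q1 A + r2 * Q2 A + r3 * Q3 A ∈ idI A := fun r1 r2 r3 =>
    add_mem (add_mem (Ideal.mul_mem_left _ _ h1) (Ideal.mul_mem_left _ _ h2))
      (Ideal.mul_mem_left _ _ h3)
  induction hp using Submodule.span_induction with
  | zero => simp
  | add u w _ _ hu hw => rw [mul_add]; exact add_mem hu hw
  | smul c u _ hu => rw [smul_eq_mul, mul_left_comm]; exact Ideal.mul_mem_left _ _ hu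
  | mem g hg =>
    rcases hg with rfl | rfl | rfl
    · convert! key (-(vh * vc) + vb * vi) (vg * vc - vi ^ 2) (-(vg * vb) + vi * vh) using 1
      simp [detM, Q1, Q2, Q3, L1]; ring
    · convert! key (ve * vc - vb * vf) (vh * vc + vi * vf) (-(vh * vb) - vi * ve) using 1
      simp [detM, Q1, Q2, Q3, L2]; ring
    · convert! key (ve * vi - vh * vf) (vh * vi + vg * vf) (-(vh ^ 2) - vg * ve) using 1
      simp [detM, Q1, Q2, Q3, L3]; ring

theorem idJ_eq : idJ A = idI A ⊔ Ideal.span {detM A} := by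
  simp only [idJ, idI, Ideal.span_insert, sup_assoc]

theorem idI_eq : idI A = idJ A ⊓ idL A := by
  refine le_antisymm (le_inf (idI_le_idJ A) (idI_le_idL A)) ?_
  rintro p ⟨hJ, hL⟩
  rw [idJ_eq, SetLike.mem_coe, Submodule.mem_sup] at hJ
  obtain ⟨q, hq, _, hr, rfl⟩ := hJ
  obtain ⟨r, rfl⟩ := Ideal.mem_span_singleton'.mp hr
  have h1 : detM A * r ∈ idL A := by
    have := (idL A).sub_mem hL (idI_le_idL A hq)
    rwa [add_sub_cancel_left, mul_comm] at this
  rw [mul_comm r]
  exact add_mem hq (detM_mul_idL A (nz_detM A r h1))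

theorem idL_le_colon : ∀ p ∈ idJ A, ∀ l ∈ idL A, p * l ∈ idI A := by
  intro p hp l hl
  rw [idJ_eq, Submodule.mem_sup] at hp
  obtain ⟨q, hq, _, hr, rfl⟩ := hp
  obtain ⟨r, rfl⟩ := Ideal.mem_span_singleton'.mp hr
  rw [add_mul, mul_assoc]
  exact add_mem (Ideal.mul_mem_right _ _ hq) (Ideal.mul_mem_left _ _ (detM_mul_idL A hl))

theorem colon_idJ : (idI A).colon (idJ A : Set (D A)) = idL A := by
  refine le_antisymm (fun p hp => ?_) fun p hp => ?_
  · have h1 := idI_le_idL A (Submodule.mem_colon.mp hp _ (detM_mem_idJ A))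
    rw [smul_eq_mul, mul_comm] at h1
    exact nz_detM A p h1
  · exact Submodule.mem_colon.mpr fun q hq => by
      rw [smul_eq_mul, mul_comm]; exact idL_le_colon A q hq p hp

theorem L1_notMem_idJ [Nontrivial A] : L1 A ∉ idJ A :=
  nmem_span (MvPolynomial.eval ![1, 0, 0, 0, 0, 0, 0, 0, 0])
    (by simp [Q1, Q2, Q3, detM]) (by simp [L1])

theorem detM_notMem_idL [Nontrivial A] : detM A ∉ idL A :=
  nmem_span (MvPolynomial.eval ![0, 0, -1, -1, 0, 0, 0, 1, 0])
    (by simp [L1, L2, L3]) (by simp [detM])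

theorem idJ_mem_minimalPrimes [IsDomain A] : idJ A ∈ (idI A).minimalPrimes := by
  refine ⟨⟨prime_idJ A, idI_le_idJ A⟩, ?_⟩
  rintro P ⟨hP, hIP⟩ hPJ
  have hl : L1 A ∉ P := fun h => L1_notMem_idJ A (hPJ h)
  have hd : detM A ∈ P :=
    (hP.mem_or_mem (hIP (detM_mul_idL A (Ideal.subset_span (by simp) : L1 A ∈ idL A)))).resolve_right hl
  rw [idJ_eq]
  exact sup_le hIP (Ideal.span_le.mpr (by simpa using hd))

theorem idL_mem_minimalPrimes [IsDomain A] : idL A ∈ (idI A).minimalPrimes := by
  refine ⟨⟨prime_idL A, idI_le_idL A⟩, ?_⟩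
  rintro P ⟨hP, hIP⟩ hPL
  intro p hp
  exact (hP.mem_or_mem (hIP (detM_mul_idL A hp))).resolve_left fun h => detM_notMem_idL A (hPL h)

attribute [local instance] MvPolynomial.algebraMvPolynomial

/-- A colon ideal computation, checked locally on the base. -/
theorem colon_idL (hloc : ∀ m : Ideal A, ∀ _ : m.IsMaximal,
    IsDomain (Localization.AtPrime m)) :
    (idI A).colon (idL A : Set (D A)) = idJ A := by
  refine le_antisymm (fun p hp => ?_) fun p hp => Submodule.mem_colon.mpr fun l hl => by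
    rw [smul_eq_mul]; exact idL_le_colon A p hp l hl
  have h1 : p * L1 A ∈ idJ A := idI_le_idJ A
    (Submodule.mem_colon.mp hp _ (Ideal.subset_span (by simp) : L1 A ∈ idL A))
  let T : Ideal A :=
    { carrier := {r | MvPolynomial.C r * p ∈ idJ A}
      add_mem' := fun {r s} hr hs => by
        simp only [Set.mem_ofPred_eq, map_add, add_mul] at hr hs ⊢; exact add_mem hr hs
      zero_mem' := by simp
      smul_mem' := fun c r hr => by
        simp only [Set.mem_ofPred_eq, smul_eq_mul, map_mul, mul_assoc] at hr ⊢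
        exact Ideal.mul_mem_left _ _ hr }
  have hT : T = ⊤ := by
    by_contra hne
    obtain ⟨m, hm, hTm⟩ := Ideal.exists_le_maximal T hne
    haveI := hloc m hm
    let K := Localization.AtPrime m
    have hmap : (idJ A).map (algebraMap (D A) (D K)) = idJ K := by
      rw [MvPolynomial.algebraMap_def, idJ, idJ, Ideal.map_span]
      simp [Set.image_insert_eq, Q1, Q2, Q3, detM]
    have hL : algebraMap (D A) (D K) (L1 A) = L1 K := by
      rw [MvPolynomial.algebraMap_def]
      simp only [L1, map_sub, MvPolynomial.map_X]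
    have hmem : algebraMap (D A) (D K) p ∈ idJ K := by
      have := Ideal.mem_map_of_mem (algebraMap (D A) (D K)) h1
      rw [hmap, map_mul, hL] at this
      exact ((prime_idJ K).mem_or_mem this).resolve_right (L1_notMem_idJ K)
    rw [← hmap, IsLocalization.algebraMap_mem_map_algebraMap_iff
      (m.primeCompl.map (MvPolynomial.C (σ := Fin 9))) (D K)] at hmem
    obtain ⟨s, hs, hsp⟩ := hmem
    obtain ⟨r, hr, rfl⟩ := Submonoid.mem_map.mp hs
    exact hr (hTm hsp)
  have h0 : MvPolynomial.C 1 * p ∈ idJ A := (Ideal.eq_top_iff_one T).mp hT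
  simpa using h0

theorem torsionFree_quotient (I : Ideal (D ℤ)) (hI : ∀ n : ℤ, n ≠ 0 → ∀ p, (n : D ℤ) * p ∈ I → p ∈ I) :
    Module.Flat ℤ (D ℤ ⧸ I) := by
  haveI : Module.IsTorsionFree ℤ (D ℤ ⧸ I) := by
    rw [Module.isTorsionFree_iff_smul_eq_zero]
    intro n x hnx
    rcases eq_or_ne n 0 with rfl | hn
    · exact Or.inl rfl
    right
    obtain ⟨p, rfl⟩ := Ideal.Quotient.mk_surjective x
    rw [zsmul_eq_mul, ← map_intCast (Ideal.Quotient.mk I), ← map_mul,
      Ideal.Quotient.eq_zero_iff_mem] at hnx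
    exact Ideal.Quotient.eq_zero_iff_mem.mpr (hI n hn p hnx)
  infer_instance

theorem intCast_notMem_idJ {n : ℤ} (hn : n ≠ 0) : (n : D ℤ) ∉ idJ ℤ :=
  nmem_span (MvPolynomial.eval 0) (by simp [Q1, Q2, Q3, detM]) (by simpa using hn)

theorem intCast_notMem_idL {n : ℤ} (hn : n ≠ 0) : (n : D ℤ) ∉ idL ℤ :=
  nmem_span (MvPolynomial.eval 0) (by simp [L1, L2, L3]) (by simpa using hn)

/-! ### Regular sequences -/

theorem isWeaklyRegular_three {R : Type*} [CommRing R] {p q r : R} (h1 : NZ ⊥ p)
    (h2 : NZ (Ideal.span {p}) q) (h3 : NZ (Ideal.span {p, q}) r) :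
    RingTheory.Sequence.IsWeaklyRegular R [p, q, r] := by
  have conv : ∀ {I : Ideal R} {s : R}, NZ I s →
      IsSMulRegular (R ⧸ (I • ⊤ : Submodule R R)) s := by
    intro I s hs
    rw [isSMulRegular_iff_right_eq_zero_of_smul]
    intro m hm
    obtain ⟨u, rfl⟩ := Submodule.Quotient.mk_surjective _ m
    rw [← Submodule.Quotient.mk_smul, Submodule.Quotient.mk_eq_zero] at hm
    simp only [smul_eq_mul, Ideal.mul_top] at hm
    rw [Submodule.Quotient.mk_eq_zero, smul_eq_mul, Ideal.mul_top]
    exact hs u hm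
  constructor
  intro k hk
  match k, hk with
  | 0, _ => exact conv (by simpa using h1)
  | 1, _ => exact conv (by simpa using h2)
  | 2, _ => exact conv (by simpa [Ideal.span_insert] using h3)

theorem isRegular_lin [Nontrivial A] :
    RingTheory.Sequence.IsRegular (D A) [L1 A, L2 A, L3 A] := by
  refine ⟨isWeaklyRegular_three (nz_of_equiv (S := (V A)[X][X][X]) (Φ A) ?_) (nz_of_equiv (S := (V A)[X][X][X]) (Φ A) ?_)
    (nz_of_equiv (S := (V A)[X][X][X]) (Φ A) ?_), ?_⟩
  · rw [Φ_L1, Ideal.map_bot]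
    have := nz_map (nz_map (nz_map (nz_span_X (A := A) ∅ (j := 0) (by simp))))
    simpa using this
  · rw [Φ_L2, Ideal.map_span, Set.image_singleton, Φ_L1]
    have := nz_map (nz_map (nz_map (nz_span_X (A := A) {0} (j := 1) (by simp))))
    simpa [Ideal.map_span] using this
  · rw [Φ_L3, Ideal.map_span, Set.image_insert_eq, Set.image_singleton, Φ_L1, Φ_L2]
    have := nz_map (nz_map (nz_map (nz_span_X (A := A) {0, 1} (j := 2) (by simp))))
    simpa [Ideal.map_span, Set.image_insert_eq] using this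
  · intro htop
    have h0 : (1 : D A) ∈ Ideal.span {L1 A, L2 A, L3 A} := by
      have : (1 : D A) ∈ (⊤ : Submodule (D A) (D A)) := trivial
      rw [htop] at this
      simpa [Ideal.span_insert, Ideal.mul_top] using this
    exact nmem_span (MvPolynomial.eval 0) (by simp [L1, L2, L3]) (by simp) h0

theorem isRegular_jacobi [Nontrivial A] :
    RingTheory.Sequence.IsRegular (D A) [Q1 A, Q2 A, Q3 A] := by
  have hyx : ∀ (s : Set (Fin 6)), (1 : Fin 6) ∉ s →
      NZ ((Ideal.span (var A '' s)).map C) (F1 A) :=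
    fun s hs => nz_lin _ (nz_span_X s hs)
  have hx1 : NZ (Ideal.span {F1 A}) (C (x A)) := by
    have := nz_swap (nz_map (nz_span_X (A := A) ∅ (j := 0) (by simp)))
      (F := F1 A) (by simpa [Ideal.map_span] using hyx {0} (by simp))
    simpa [Ideal.map_span] using this
  have hz1 : NZ (Ideal.span {F1 A}) (C (z A)) := by
    have := nz_swap (nz_map (nz_span_X (A := A) ∅ (j := 2) (by simp)))
      (F := F1 A) (by simpa [Ideal.map_span] using hyx {2} (by simp))
    simpa [Ideal.map_span] using this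
  have hx2 : NZ (Ideal.span {C (z A), F1 A}) (C (x A)) := by
    have := nz_swap (nz_map (nz_span_X (A := A) {2} (j := 0) (by simp)))
      (F := F1 A) (by
        simpa [Ideal.map_span, Set.image_insert_eq, Ideal.span_insert, Ideal.map_sup, sup_comm] using
          hyx {0, 2} (by simp))
    simpa [Ideal.map_span, Ideal.span_insert] using this
  have hz2 : NZ (Ideal.span {C (F1 A), F2 A}) (C (C (z A))) := by
    have := nz_swap (nz_map hz1) (F := F2 A) (by
      have := nz_lin (C (vv A)) hx2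
      simpa [F2, Ideal.map_span, Set.image_insert_eq, Ideal.span_insert, Ideal.map_sup, sup_comm] using this)
    simpa [Ideal.map_span, Ideal.span_insert] using this
  refine ⟨isWeaklyRegular_three (nz_of_equiv (S := (V A)[X][X][X]) (Φ A) ?_) (nz_of_equiv (S := (V A)[X][X][X]) (Φ A) ?_)
    (nz_of_equiv (S := (V A)[X][X][X]) (Φ A) ?_), ?_⟩
  · rw [Φ_Q1, Ideal.map_bot]
    have := nz_neg (nz_map (nz_map (hyx ∅ (by simp))))
    simpa using this
  · rw [Φ_Q2, Ideal.map_span, Set.image_singleton, Φ_Q1, span_neg_singleton (C (C (F1 A)))]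
    have := nz_neg (nz_map (nz_lin (C (vv A)) hx1))
    simpa [F2, Ideal.map_span] using this
  · rw [Φ_Q3, Ideal.map_span, Set.image_insert_eq, Set.image_singleton, Φ_Q1, Φ_Q2, Ideal.span_insert,
      span_neg_singleton (C (C (F1 A))), span_neg_singleton (C (F2 A))]
    have := nz_lin (-C (C (ww A))) hz2
    simpa [F3, Ideal.map_span, Set.image_insert_eq, Ideal.span_insert, Ideal.map_sup] using this
  · intro htop
    have h0 : (1 : D A) ∈ Ideal.span {Q1 A, Q2 A, Q3 A} := by
      have : (1 : D A) ∈ (⊤ : Submodule (D A) (D A)) := trivial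
      rw [htop] at this
      simpa [Ideal.span_insert, Ideal.mul_top] using this
    exact nmem_span (MvPolynomial.eval 0) (by simp [Q1, Q2, Q3]) (by simp) h0

end Groth.Agent.Lie3
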